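import Groth.Agent.LefFlatLib.Fib
import Groth.Agent.RTrivLib.P1
import Groth.Agent.FibDimLib.TopLocalDim
import Groth.Agent.FibDimLib.Smooth
import Groth.Agent.SmoothDimLib.Chart
import Groth.Agent.DimIneqLib.Dim
import Groth.Agent.S0404
import Groth.Agent.ChowLib.Embed
import Mathlib.AlgebraicGeometry.Artinian
import Mathlib.AlgebraicGeometry.ZariskisMainTheorem

/-!
# Powers of the projective line over a base, and their flat dominant closed subschemes of full codimension
-/

set_option autoImplicit false
set_option linter.style.haveILetI false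
set_option backward.isDefEq.respectTransparency false
set_option backward.isDefEq.respectTransparency.types false

universe u

open CategoryTheory CategoryTheory.Limits AlgebraicGeometry TopologicalSpace

noncomputable section

namespace P1PowLib

variable {X Y : Scheme.{u}} (g : Y ⟶ X)

/-- The `n`-fold fibre power. -/
abbrev pw (n : ℕ) : Scheme.{u} := widePullback X (fun _ : Fin n => Y) (fun _ => g)

abbrev pwBase (n : ℕ) : pw g n ⟶ X := WidePullback.base (fun _ : Fin n => g)

theorem exists_iso_succ (n : ℕ) :
    ∃ e : pw g (n + 1) ≅ pullback (pwBase g n) g, e.hom ≫ pullback.fst _ _ ≫ pwBase g n = pwBase g (n + 1) := by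
  let A : Fin (n + 1) → (Y ⟶ X) := fun _ => g
  let a : pw g (n + 1) ⟶ pw g n :=
    WidePullback.lift (pwBase g (n + 1)) (fun i => WidePullback.π A i.castSucc)
      (fun i => WidePullback.π_arrow A i.castSucc)
  let fwd : pw g (n + 1) ⟶ pullback (pwBase g n) g :=
    pullback.lift a (WidePullback.π A (Fin.last n))
      (by rw [WidePullback.lift_base]; exact (WidePullback.π_arrow A (Fin.last n)).symm)
  let bwd : pullback (pwBase g n) g ⟶ pw g (n + 1) :=
    WidePullback.lift (pullback.fst _ _ ≫ pwBase g n)
      (fun i => Fin.lastCases (pullback.snd _ _) (fun j => pullback.fst _ _ ≫ WidePullback.π _ j) i)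
      (fun i => by
        induction i using Fin.lastCases with
        | last => rw [Fin.lastCases_last]; exact pullback.condition.symm
        | cast j =>
          rw [Fin.lastCases_castSucc, Category.assoc]
          exact congrArg (pullback.fst _ _ ≫ ·) (WidePullback.π_arrow (fun _ : Fin n => g) j))
  refine ⟨⟨fwd, bwd, ?_, ?_⟩, ?_⟩
  · apply WidePullback.hom_ext
    · intro i
      rw [Category.assoc, WidePullback.lift_π, Category.id_comp]
      induction i using Fin.lastCases with
      | last => rw [Fin.lastCases_last, pullback.lift_snd]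
      | cast j => rw [Fin.lastCases_castSucc, pullback.lift_fst_assoc, WidePullback.lift_π]
    · rw [Category.assoc, WidePullback.lift_base, Category.id_comp, pullback.lift_fst_assoc, WidePullback.lift_base]
  · apply pullback.hom_ext
    · rw [Category.assoc, pullback.lift_fst, Category.id_comp]
      apply WidePullback.hom_ext
      · intro j
        rw [Category.assoc, WidePullback.lift_π, WidePullback.lift_π, Fin.lastCases_castSucc]
      · rw [Category.assoc, WidePullback.lift_base, WidePullback.lift_base]
    · rw [Category.assoc, pullback.lift_snd, Category.id_comp, WidePullback.lift_π, Fin.lastCases_last]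
  · show fwd ≫ _ = _
    rw [pullback.lift_fst_assoc, WidePullback.lift_base]

theorem isIso_pwBase_zero : IsIso (pwBase g 0) := by
  refine ⟨WidePullback.lift (𝟙 X) (fun i => i.elim0) (fun i => i.elim0), ?_, WidePullback.lift_base _ _ _ _⟩
  apply WidePullback.hom_ext
  · exact fun i => i.elim0
  · rw [Category.assoc, WidePullback.lift_base, Category.id_comp, Category.comp_id]

theorem proper_smooth [IsProper g] [SmoothOfRelativeDimension 1 g] (n : ℕ) :
    IsProper (pwBase g n) ∧ SmoothOfRelativeDimension n (pwBase g n) := by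
  induction n with
  | zero =>
    haveI := isIso_pwBase_zero g
    exact ⟨inferInstance, inferInstance⟩
  | succ n ih =>
    obtain ⟨e, he⟩ := exists_iso_succ g n
    obtain ⟨h1, h2⟩ := ih
    have hP : IsProper (pullback.fst (pwBase g n) g) := MorphismProperty.pullback_fst (P := @IsProper) _ _ ‹_›
    haveI := smoothOfRelativeDimension_isStableUnderBaseChange (n := 1)
    have hS : SmoothOfRelativeDimension 1 (pullback.fst (pwBase g n) g) :=
      MorphismProperty.pullback_fst (P := @SmoothOfRelativeDimension 1) _ _ ‹_›
    rw [← he]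
    refine ⟨inferInstance, ?_⟩
    haveI : SmoothOfRelativeDimension (0 + 1) (e.hom ≫ pullback.fst (pwBase g n) g) := inferInstance
    haveI : SmoothOfRelativeDimension 1 (e.hom ≫ pullback.fst (pwBase g n) g) := by
      simpa using ‹SmoothOfRelativeDimension (0 + 1) (e.hom ≫ pullback.fst (pwBase g n) g)›
    have := smoothOfRelativeDimension_comp (n := 1) (m := n) (e.hom ≫ pullback.fst (pwBase g n) g) (pwBase g n)
    rw [add_comm, Category.assoc] at this
    exact this

theorem toBase_proper_smooth (X : Scheme.{u}) :
    IsProper (CohB1.ProjSpaceOver.toBase 1 X) ∧ SmoothOfRelativeDimension 1 (CohB1.ProjSpaceOver.toBase 1 X) := by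
  haveI : IsNoetherianRing (ULift.{u} ℤ) := isNoetherianRing_of_ringEquiv ℤ ULift.ringEquiv.symm
  haveI := smoothOfRelativeDimension_isStableUnderBaseChange (n := 1)
  haveI : SmoothOfRelativeDimension 1 (CohB1.ProjSpace.toSpec 1 (ULift.{u} ℤ)) := LefFlatLib.smoothRel_projSpace
  exact ⟨ChowLib.isProper_toBase 1 X,
    MorphismProperty.pullback_snd (P := @SmoothOfRelativeDimension 1) _ _ ‹_›⟩

theorem dim_fiber_le {P S : Scheme.{u}} (π : P ⟶ S) (n : ℕ) [SmoothOfRelativeDimension n π] (s : S) :
    topologicalKrullDim ↥(π.fiber s) ≤ (n : WithBot ℕ∞) := by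
  haveI := smoothOfRelativeDimension_isStableUnderBaseChange (n := n)
  haveI : SmoothOfRelativeDimension n (π.fiberToSpecResidueField s) :=
    MorphismProperty.pullback_snd (P := @SmoothOfRelativeDimension n) _ _ ‹_›
  haveI : Smooth (π.fiberToSpecResidueField s) := SmoothOfRelativeDimension.smooth n _
  rw [FibDimLib.topologicalKrullDim_eq_iSup_localDim]
  exact iSup_le fun x => ((SmoothDimLib.fibreDimAt_eq_localDim (π.fiberToSpecResidueField s) x).symm.trans
    (FibDimLib.fibreDimAt_smoothOfRelativeDimension n (π.fiberToSpecResidueField s) x)).le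

/-- Over the generic point local rings are no bigger than the generic fibre. -/
theorem stalk_dim_le_fiber {P S : Scheme.{u}} [IsIntegral S] (π : P ⟶ S) (x : P) (hx : π x = genericPoint S) :
    ringKrullDim (P.presheaf.stalk x) ≤ topologicalKrullDim ↥(π.fiber (genericPoint S)) := by
  rw [← PrimeSpectrum.topologicalKrullDim_eq_ringKrullDim]
  have hmem : ∀ z, P.fromSpecStalk x z ∈ π ⁻¹' {genericPoint S} := fun z => by
    have hz : P.fromSpecStalk x z ⤳ x := by
      have : P.fromSpecStalk x z ∈ Set.range (P.fromSpecStalk x) := ⟨z, rfl⟩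
      rwa [Scheme.range_fromSpecStalk] at this
    have h2 := hz.map π.continuous
    rw [hx] at h2
    exact (h2.antisymm (genericPoint_specializes _)).eq
  let j : PrimeSpectrum (P.presheaf.stalk x) → π ⁻¹' {genericPoint S} := fun z => ⟨P.fromSpecStalk x z, hmem z⟩
  have hj : Topology.IsInducing j :=
    Topology.IsInducing.codRestrict (P.fromSpecStalk x).isEmbedding.isInducing hmem
  exact hj.topologicalKrullDim_le.trans (π.fiberHomeo (genericPoint S)).symm.isInducing.topologicalKrullDim_le

theorem fiber_le_zero {X W P : Scheme.{u}} [IsIntegral X] [IsIntegral W] (π : P ⟶ X) (n : ℕ)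
    [SmoothOfRelativeDimension n π] [IsProper π] (i : W ⟶ P) [IsClosedImmersion i]
    (hcodim : ringKrullDim (P.presheaf.stalk (i (genericPoint W))) = n)
    [IsDominant (i ≫ π)] [Flat (i ≫ π)] [LocallyOfFinitePresentation (i ≫ π)] (s : X) :
    topologicalKrullDim ↥((i ≫ π).fiber s) ≤ 0 := by
  let f := i ≫ π
  have hgen : ∀ w : W, f w = genericPoint X → w = genericPoint W := fun w hw => by
    by_contra hne
    have hlt : i w < i (genericPoint W) := by
      refine lt_of_le_not_ge (Scheme.le_iff_specializes.2 ((genericPoint_specializes w).map i.continuous)) fun h => ?_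
      have := (i.isClosedEmbedding.isInducing.specializes_iff).1 (Scheme.le_iff_specializes.1 h)
      exact hne ((genericPoint_specializes w).antisymm this).eq.symm
    have h1 := Order.coheight_add_one_le hlt
    have h2 : ringKrullDim (P.presheaf.stalk (i w)) ≤ (n : WithBot ℕ∞) :=
      (stalk_dim_le_fiber π (i w) hw).trans (dim_fiber_le π n _)
    rw [ringKrullDim_stalk_eq_coheight] at h2 hcodim
    have e1 : Order.coheight (i (genericPoint W)) = (n : ℕ∞) := by exact_mod_cast hcodim
    have e2 : Order.coheight (i w) ≤ (n : ℕ∞) := by exact_mod_cast h2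
    rw [e1] at h1
    have h3 := h1.trans e2
    exact absurd (by exact_mod_cast h3 : n + 1 ≤ n) (by omega)
  have hη : topologicalKrullDim ↥(f.fiber (genericPoint X)) ≤ 0 := by
    haveI : Subsingleton (f ⁻¹' {genericPoint X}) :=
      ⟨fun a b => Subtype.ext ((hgen a.1 a.2).trans (hgen b.1 b.2).symm)⟩
    haveI : Subsingleton ↥(f.fiber (genericPoint X)) := (f.fiberHomeo _).toEquiv.subsingleton
    exact topologicalKrullDim_zero_of_discreteTopology _
  by_contra hs
  rw [not_le] at hs
  have hopen := Groth.Agent.S0404.result f 0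
  have := ((genericPoint_spec X).mem_open_set_iff hopen).2 ⟨s, trivial, hs⟩
  exact (not_lt.2 hη) this

theorem main {X : Scheme.{u}} [IsIntegral X] [IsNoetherian X] (n : ℕ) (W : Scheme.{u}) [IsIntegral W]
    (i : W ⟶ pw (CohB1.ProjSpaceOver.toBase 1 X) n) [IsClosedImmersion i]
    (hcodim : ringKrullDim ((pw (CohB1.ProjSpaceOver.toBase 1 X) n).presheaf.stalk (i (genericPoint W))) = n)
    [IsDominant (i ≫ pwBase (CohB1.ProjSpaceOver.toBase 1 X) n)]
    [Flat (i ≫ pwBase (CohB1.ProjSpaceOver.toBase 1 X) n)] :
    IsFinite (i ≫ pwBase (CohB1.ProjSpaceOver.toBase 1 X) n) ∧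
      Surjective (i ≫ pwBase (CohB1.ProjSpaceOver.toBase 1 X) n) := by
  obtain ⟨_, _⟩ := toBase_proper_smooth X
  obtain ⟨_, _⟩ := proper_smooth (CohB1.ProjSpaceOver.toBase 1 X) n
  set f := i ≫ pwBase (CohB1.ProjSpaceOver.toBase 1 X) n with hf
  haveI : IsProper f := by rw [hf]; infer_instance
  haveI : LocallyOfFinitePresentation f := inferInstance
  have hdim := fiber_le_zero (pwBase (CohB1.ProjSpaceOver.toBase 1 X) n) n i hcodim
  haveI : LocallyQuasiFinite f := by
    refine locallyQuasiFinite_iff_finite_preimage_singleton.2 fun s => ?_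
    haveI : IsNoetherian (f.fiber s) := by
      haveI : LocallyOfFiniteType (f.fiberToSpecResidueField s) :=
        MorphismProperty.pullback_snd (P := @LocallyOfFiniteType) _ _ inferInstance
      haveI : QuasiCompact (f.fiberToSpecResidueField s) :=
        MorphismProperty.pullback_snd (P := @QuasiCompact) _ _ inferInstance
      haveI : CompactSpace ↥(f.fiber s) := QuasiCompact.compactSpace_of_compactSpace (f.fiberToSpecResidueField s)
      haveI : IsLocallyNoetherian (f.fiber s) := LocallyOfFiniteType.isLocallyNoetherian (f.fiberToSpecResidueField s)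
      exact {}
    haveI : IsLocallyArtinian (f.fiber s) := IsLocallyArtinian.of_topologicalKrullDim_le_zero (hdim s)
    haveI : IsArtinianScheme (f.fiber s) := {}
    haveI : Finite (f ⁻¹' {s}) := Finite.of_equiv _ (f.fiberHomeo s).toEquiv
    exact Set.toFinite _
  refine ⟨IsFinite.of_isProper_of_locallyQuasiFinite f, ⟨fun x => ?_⟩⟩
  have hc := f.isClosedMap.isClosed_range
  have : Set.range f = Set.univ := by
    rw [← hc.closure_eq]; exact f.denseRange.closure_range
  exact (Set.ext_iff.1 this x).2 trivial

end P1PowLib
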